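import Groth.Agent.H5.Stalk.Basic

/-!
# Relative flatness at a point is invariant under isomorphisms of modules (helper70)
-/

set_option autoImplicit false
set_option linter.style.haveILetI false

open CategoryTheory Limits AlgebraicGeometry TopologicalSpace Opposite

namespace Groth.Agent.H70.RelFlatBC

universe u

variable {X Y : Scheme.{u}} (f : X ⟶ Y)

/-- the linear equivalence on stalks induced by an isomorphism of modules -/
noncomputable def stalkEquivOfIso {F G : X.Modules} (e : F ≅ G) (x : X) :
    F.presheaf.stalk x ≃ₗ[X.presheaf.stalk x] G.presheaf.stalk x :=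
  ((Groth.Agent.H5.Stalk.stalkFunctor x).mapIso e).toLinearEquiv

/-- relative flatness at a point is invariant under isomorphisms of modules -/
theorem isFlatOverAt_of_iso {F G : X.Modules} (e : F ≅ G) (x : X)
    (h : FlatMod.IsFlatOverAt f F x) : FlatMod.IsFlatOverAt f G x := by
  letI modF : Module (Y.presheaf.stalk (f x)) (F.presheaf.stalk x) :=
    FlatMod.moduleStalkOver f F x
  letI modG : Module (Y.presheaf.stalk (f x)) (G.presheaf.stalk x) :=
    FlatMod.moduleStalkOver f G x
  haveI : Module.Flat (Y.presheaf.stalk (f x)) (F.presheaf.stalk x) := h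
  let e' : F.presheaf.stalk x ≃ₗ[Y.presheaf.stalk (f x)] G.presheaf.stalk x :=
    { (stalkEquivOfIso e x) with
      map_smul' := fun r m => (stalkEquivOfIso e x).map_smul ((f.stalkMap x).hom r) m }
  have key : @Module.Flat (Y.presheaf.stalk (f x)) (G.presheaf.stalk x) _ _ modG :=
    Module.Flat.of_linearEquiv e'.symm
  exact key

theorem isFlatOverAt_iff_of_iso {F G : X.Modules} (e : F ≅ G) (x : X) :
    FlatMod.IsFlatOverAt f F x ↔ FlatMod.IsFlatOverAt f G x :=
  ⟨isFlatOverAt_of_iso f e x, isFlatOverAt_of_iso f e.symm x⟩

/-- relative flatness at a point where the stalk vanishes -/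
theorem isFlatOverAt_of_subsingleton (F : X.Modules) (x : X)
    [Subsingleton (F.presheaf.stalk x)] : FlatMod.IsFlatOverAt f F x := by
  letI modF : Module (Y.presheaf.stalk (f x)) (F.presheaf.stalk x) :=
    FlatMod.moduleStalkOver f F x
  have key : @Module.Flat (Y.presheaf.stalk (f x)) (F.presheaf.stalk x) _ _ modF :=
    inferInstance
  exact key

end Groth.Agent.H70.RelFlatBC
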