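import Groth.Agent.H71.QCoh.FlatBaseChange

/-!
# Pointwise descent of relative flatness along a flat base change (helper70)

In a cartesian square `X' = Y' ×_Y X` with `g : Y' ⟶ Y` flat at `f' x'`, if `g'^* F` is flat over
`Y'` at `x'`, then `F` is flat over `Y` at `g' x'`.
-/

set_option autoImplicit false
set_option linter.style.haveILetI false

open CategoryTheory Limits AlgebraicGeometry TopologicalSpace Opposite TensorProduct

namespace Groth.Agent.H70.RelFlatBC

universe u

variable {X Y X' Y' : Scheme.{u}} {f : X ⟶ Y} {f' : X' ⟶ Y'} {g' : X' ⟶ X} {g : Y' ⟶ Y}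

set_option maxHeartbeats 800000 in
/-- pointwise descent of flatness of a quasi-coherent module along a flat base change -/
theorem isFlatOverAt_of_isFlatOverAt_pullback (hc : IsPullback g' f' f g) (F : X.Modules)
    [F.IsQuasicoherent] (x' : X') (hg : (g.stalkMap (f' x')).hom.Flat)
    (h : FlatMod.IsFlatOverAt f' ((Scheme.Modules.pullback g').obj F) x') :
    FlatMod.IsFlatOverAt f F (g' x') := by
  have hpt : f (g' x') = g (f' x') := by
    have := congrArg (fun k => k.base x') hc.w
    simpa using this
  -- the ring map `B → B'`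
  let ψ : Y.presheaf.stalk (f (g' x')) →+* Y'.presheaf.stalk (f' x') :=
    (g.stalkMap (f' x')).hom.comp (Y.presheaf.stalkCongr (.of_eq hpt)).hom.hom
  have hψflat : ψ.Flat := by
    refine RingHom.Flat.comp ?_ hg
    exact RingHom.Flat.of_bijective
      (ConcreteCategory.bijective_of_isIso (Y.presheaf.stalkCongr (.of_eq hpt)).hom)
  -- commutation of the square of stalk maps
  have hcomm : ∀ b : Y.presheaf.stalk (f (g' x')),
      (f'.stalkMap x').hom (ψ b) = (g'.stalkMap x').hom ((f.stalkMap (g' x')).hom b) := by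
    intro b
    have h1 := Scheme.Hom.stalkMap_congr_hom (g' ≫ f) (f' ≫ g) hc.w x'
    rw [Scheme.Hom.stalkMap_comp, Scheme.Hom.stalkMap_comp] at h1
    have h2 := congrArg (fun k => k.hom b) h1
    exact h2.symm
  -- algebra structures
  letI algBC : Algebra (Y.presheaf.stalk (f (g' x'))) (X.presheaf.stalk (g' x')) :=
    (f.stalkMap (g' x')).hom.toAlgebra
  letI algCC' : Algebra (X.presheaf.stalk (g' x')) (X'.presheaf.stalk x') :=
    (g'.stalkMap x').hom.toAlgebra
  letI algBC' : Algebra (Y.presheaf.stalk (f (g' x'))) (X'.presheaf.stalk x') :=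
    ((g'.stalkMap x').hom.comp (f.stalkMap (g' x')).hom).toAlgebra
  haveI : IsScalarTower (Y.presheaf.stalk (f (g' x'))) (X.presheaf.stalk (g' x'))
      (X'.presheaf.stalk x') := IsScalarTower.of_algebraMap_eq (fun _ => rfl)
  letI algBB' : Algebra (Y.presheaf.stalk (f (g' x'))) (Y'.presheaf.stalk (f' x')) := ψ.toAlgebra
  letI algB'C' : Algebra (Y'.presheaf.stalk (f' x')) (X'.presheaf.stalk x') :=
    (f'.stalkMap x').hom.toAlgebra
  haveI : IsScalarTower (Y.presheaf.stalk (f (g' x'))) (Y'.presheaf.stalk (f' x'))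
      (X'.presheaf.stalk x') := IsScalarTower.of_algebraMap_eq (fun b => (hcomm b).symm)
  -- module structures
  letI modBM : Module (Y.presheaf.stalk (f (g' x'))) (F.presheaf.stalk (g' x')) :=
    FlatMod.moduleStalkOver f F (g' x')
  haveI : IsScalarTower (Y.presheaf.stalk (f (g' x'))) (X.presheaf.stalk (g' x'))
      (F.presheaf.stalk (g' x')) := IsScalarTower.of_algebraMap_smul (fun r m => rfl)
  letI modB'Q : Module (Y'.presheaf.stalk (f' x'))
      (((Scheme.Modules.pullback g').obj F).presheaf.stalk x') :=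
    FlatMod.moduleStalkOver f' ((Scheme.Modules.pullback g').obj F) x'
  haveI : IsScalarTower (Y'.presheaf.stalk (f' x')) (X'.presheaf.stalk x')
      (((Scheme.Modules.pullback g').obj F).presheaf.stalk x') :=
    IsScalarTower.of_algebraMap_smul (fun r m => rfl)
  letI modBQ : Module (Y.presheaf.stalk (f (g' x')))
      (((Scheme.Modules.pullback g').obj F).presheaf.stalk x') :=
    Module.compHom _ (algebraMap (Y.presheaf.stalk (f (g' x'))) (X'.presheaf.stalk x'))
  haveI : IsScalarTower (Y.presheaf.stalk (f (g' x'))) (X'.presheaf.stalk x')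
      (((Scheme.Modules.pullback g').obj F).presheaf.stalk x') :=
    IsScalarTower.of_algebraMap_smul (fun r m => rfl)
  haveI : IsScalarTower (Y.presheaf.stalk (f (g' x'))) (Y'.presheaf.stalk (f' x'))
      (((Scheme.Modules.pullback g').obj F).presheaf.stalk x') :=
    IsScalarTower.of_algebraMap_smul (fun r m => by
      change (f'.stalkMap x').hom (ψ r) • m =
        (g'.stalkMap x').hom ((f.stalkMap (g' x')).hom r) • m
      rw [hcomm])
  -- flatness
  haveI : Module.Flat (Y.presheaf.stalk (f (g' x'))) (Y'.presheaf.stalk (f' x')) := hψflat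
  haveI : Module.Flat (Y'.presheaf.stalk (f' x'))
      (((Scheme.Modules.pullback g').obj F).presheaf.stalk x') := h
  haveI : Module.Flat (Y.presheaf.stalk (f (g' x')))
      (((Scheme.Modules.pullback g').obj F).presheaf.stalk x') :=
    Module.Flat.trans (Y.presheaf.stalk (f (g' x'))) (Y'.presheaf.stalk (f' x')) _
  haveI : Module.Flat (X.presheaf.stalk (g' x')) (X'.presheaf.stalk x') :=
    Groth.Agent.H71.QCoh.flat_stalkMap_baseChange hc x' hg
  haveI : IsLocalHom (algebraMap (X.presheaf.stalk (g' x')) (X'.presheaf.stalk x')) :=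
    inferInstanceAs (IsLocalHom (g'.stalkMap x').hom)
  haveI : Module.FaithfullyFlat (X.presheaf.stalk (g' x')) (X'.presheaf.stalk x') :=
    Module.FaithfullyFlat.of_flat_of_isLocalHom
  obtain ⟨e⟩ := Groth.Agent.H71.QCoh.exists_stalkPullbackEquiv g' F x'
  have key : @Module.Flat (Y.presheaf.stalk (f (g' x'))) (F.presheaf.stalk (g' x')) _ _ modBM :=
    Groth.Agent.H71.FlatOver.flat_of_equiv_baseChange_of_faithfullyFlat e
  exact key

end Groth.Agent.H70.RelFlatBC
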