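import Groth.Agent.H70.RelFlatBC.Main
import Groth.Agent.H70.StalkFibre.Main

/-!
# The locus of free stalks commutes with base change (helper70)

The case `f = 𝟙` of `isFlatOverAt_baseChange_iff`.
-/

set_option autoImplicit false
set_option linter.style.haveILetI false

open CategoryTheory Limits AlgebraicGeometry TopologicalSpace Opposite TensorProduct IsLocalRing

namespace Groth.Agent.H70.RelFlatBC

universe u

variable {X : Scheme.{u}}

/-- relative flatness over the identity is flatness of the stalk over the local ring -/
theorem isFlatOverAt_id_iff (F : X.Modules) (x : X) :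
    FlatMod.IsFlatOverAt (𝟙 X) F x ↔ Module.Flat (X.presheaf.stalk x) (F.presheaf.stalk x) := by
  have h := Groth.Agent.H70.FibreCritMod.flat_compHom_congr (M := F.presheaf.stalk x)
    ((𝟙 X : X ⟶ X).stalkMap x).hom (RingHom.id (X.presheaf.stalk x)) (by
      rw [Scheme.Hom.stalkMap_id]; rfl)
  exact h

/-- for a finitely presented quasi-coherent module, freeness of the stalk is relative flatness
over the identity -/
theorem free_stalk_iff_isFlatOverAt_id (F : X.Modules) (x : X)
    [Module.Finite (X.presheaf.stalk x) (F.presheaf.stalk x)] :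
    Module.Free (X.presheaf.stalk x) (F.presheaf.stalk x) ↔ FlatMod.IsFlatOverAt (𝟙 X) F x := by
  rw [isFlatOverAt_id_iff]
  exact ⟨fun _ => inferInstance, fun _ => Module.free_of_flat_of_isLocalRing⟩

variable {S X' S' : Scheme.{u}}

set_option maxHeartbeats 800000 in
/-- the free locus of an `S`-flat finitely presented module commutes with base change -/
theorem free_stalk_pullback_iff (f : X ⟶ S) [LocallyOfFinitePresentation f]
    (F : X.Modules) [SheafOfModules.IsFinitePresentation (R := X.ringCatSheaf) F]
    (hfl : FlatMod.IsFlatOver f F)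
    (g : S' ⟶ S) (f' : X' ⟶ S') (g' : X' ⟶ X) (hc : IsPullback g' f' f g) (x' : X') :
    Module.Free (X'.presheaf.stalk x')
        (((Scheme.Modules.pullback g').obj F).presheaf.stalk x') ↔
      Module.Free (X.presheaf.stalk (g' x')) (F.presheaf.stalk (g' x')) := by
  haveI : F.IsQuasicoherent := inferInstance
  haveI : LocallyOfFinitePresentation (𝟙 X ≫ f) := by
    rw [Category.id_comp]; infer_instance
  have hfl' : FlatMod.IsFlatOver (𝟙 X ≫ f) F := by
    rw [Category.id_comp]; exact hfl
  have hX : IsPullback g' (𝟙 X' ≫ f') (𝟙 X ≫ f) g := by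
    rw [Category.id_comp, Category.id_comp]; exact hc
  have w : g' ≫ 𝟙 X = 𝟙 X' ≫ g' := by simp
  have key := isFlatOverAt_baseChange_iff (𝟙 X) f g g' f' g' (𝟙 X') F hfl' hc hX w x'
  -- finiteness of the stalks
  haveI hfin : Module.Finite (X.presheaf.stalk (g' x')) (F.presheaf.stalk (g' x')) :=
    haveI := Groth.Agent.H70.StalkFibre.finitePresentation_stalk F (g' x')
    inferInstance
  haveI hfin' : Module.Finite (X'.presheaf.stalk x')
      (((Scheme.Modules.pullback g').obj F).presheaf.stalk x') := by
    letI := (g'.stalkMap x').hom.toAlgebra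
    obtain ⟨e⟩ := Groth.Agent.H71.QCoh.exists_stalkPullbackEquiv g' F x'
    exact Module.Finite.equiv e
  rw [free_stalk_iff_isFlatOverAt_id, free_stalk_iff_isFlatOverAt_id]
  exact key

end Groth.Agent.H70.RelFlatBC
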