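import Groth.Agent.H70.RelFlatBC.Main

/-!
# Pointwise version of the descent of relative flatness from a base change (helper70)
-/

set_option autoImplicit false
set_option linter.style.haveILetI false

open CategoryTheory Limits AlgebraicGeometry TopologicalSpace Opposite TensorProduct IsLocalRing
open Groth.Agent.H49.FibreStalk Groth.Agent.H1.FibreCrit

namespace Groth.Agent.H70.RelFlatBC

universe u

variable {X Y S : Scheme.{u}} (f : X ⟶ Y) (g : Y ⟶ S)
  {X' Y' S' : Scheme.{u}} (h : S' ⟶ S) (gY : Y' ⟶ Y) (g' : Y' ⟶ S') (gX : X' ⟶ X) (f' : X' ⟶ Y')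

set_option maxHeartbeats 1600000 in
/-- descent of relative flatness from a base change, via the fibre criterion; pointwise version:
flatness over `S` is only required at the point in question -/
theorem isFlatOverAt_of_isFlatOverAt_baseChange_pt
    [LocallyOfFinitePresentation (f ≫ g)] [LocallyOfFiniteType g]
    (F : X.Modules) [F.IsQuasicoherent]
    [SheafOfModules.IsFinitePresentation (R := X.ringCatSheaf) F]
    (hY : IsPullback gY g' g h) (hX : IsPullback gX (f' ≫ g') (f ≫ g) h)
    (w : gX ≫ f = f' ≫ gY) (x' : X')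
    (hfl : FlatMod.IsFlatOverAt (f ≫ g) F (gX x'))
    (hx' : FlatMod.IsFlatOverAt f' ((Scheme.Modules.pullback gX).obj F) x') :
    FlatMod.IsFlatOverAt f F (gX x') := by
  -- notation
  set s' : S' := (f' ≫ g') x' with hs'
  let x₁ : ((f' ≫ g').fiber s' : Scheme.{u}) := (f' ≫ g').asFiber x'
  let ρ : Spec (S'.residueField s') ⟶ Spec (S.residueField (h s')) :=
    Spec.map (h.residueFieldMap s')
  let α : ((f' ≫ g').fiber s' : Scheme.{u}) ⟶ ((f ≫ g).fiber (h s') : Scheme.{u}) :=
    pullback.map _ _ _ _ gX ρ h hX.w.symm (by simp [ρ])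
  let β : (g'.fiber s' : Scheme.{u}) ⟶ (g.fiber (h s') : Scheme.{u}) :=
    pullback.map _ _ _ _ gY ρ h hY.w.symm (by simp [ρ])
  have hαsq : IsPullback α ((f' ≫ g').fiberToSpecResidueField s')
      ((f ≫ g).fiberToSpecResidueField (h s')) ρ :=
    isPullback_fiberToSpecResidueField_of_isPullback hX s'
  have hβsq : IsPullback β (g'.fiberToSpecResidueField s')
      (g.fiberToSpecResidueField (h s')) ρ :=
    isPullback_fiberToSpecResidueField_of_isPullback hY s'
  have hαι : α ≫ (f ≫ g).fiberι (h s') = (f' ≫ g').fiberι s' ≫ gX := pullback.lift_fst _ _ _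
  have hβι : β ≫ g.fiberι (h s') = g'.fiberι s' ≫ gY := pullback.lift_fst _ _ _
  -- the square of fibre maps
  have hp : α ≫ MoreMor.fiberMap f g (h s') = MoreMor.fiberMap f' g' s' ≫ β := by
    apply pullback.hom_ext
    · change (α ≫ MoreMor.fiberMap f g (h s')) ≫ g.fiberι (h s') =
        (MoreMor.fiberMap f' g' s' ≫ β) ≫ g.fiberι (h s')
      rw [Category.assoc, fiberMap_fiberι, ← Category.assoc, hαι, Category.assoc, w,
        Category.assoc, hβι, ← Category.assoc (MoreMor.fiberMap f' g' s'),
        fiberMap_fiberι f' g' s', Category.assoc]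
    · change (α ≫ MoreMor.fiberMap f g (h s')) ≫ g.fiberToSpecResidueField (h s') =
        (MoreMor.fiberMap f' g' s' ≫ β) ≫ g.fiberToSpecResidueField (h s')
      rw [Category.assoc, fiberMap_fiberToSpecResidueField, hαsq.w, Category.assoc, hβsq.w,
        ← Category.assoc (MoreMor.fiberMap f' g' s'), fiberMap_fiberToSpecResidueField f' g' s']
  have hsq3 : IsPullback α (MoreMor.fiberMap f' g' s') (MoreMor.fiberMap f g (h s')) β := by
    have htot : IsPullback α (MoreMor.fiberMap f' g' s' ≫ g'.fiberToSpecResidueField s')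
        (MoreMor.fiberMap f g (h s') ≫ g.fiberToSpecResidueField (h s')) ρ := by
      rw [fiberMap_fiberToSpecResidueField, fiberMap_fiberToSpecResidueField]
      exact hαsq
    exact IsPullback.of_bot htot hp hβsq
  -- `β` is flat
  haveI : Flat ρ := inferInstance
  haveI : Flat β := MorphismProperty.of_isPullback (P := @Flat) hβsq.flip inferInstance
  -- step 1: base change to the fibre over `s'`
  have h1 : FlatMod.IsFlatOverAt f' ((Scheme.Modules.pullback gX).obj F)
      ((f' ≫ g').fiberι s' x₁) := by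
    rw [Scheme.Hom.fiberι_asFiber]
    exact hx'
  have h2 : FlatMod.IsFlatOverAt (MoreMor.fiberMap f' g' s')
      ((Scheme.Modules.pullback ((f' ≫ g').fiberι s')).obj
        ((Scheme.Modules.pullback gX).obj F)) x₁ :=
    Groth.Agent.H71.QCoh.isFlatOverAt_baseChange (isPullback_fiberMap f' g' s') _ x₁ h1
  -- step 2: the two pullbacks to the fibre over `s'` agree
  let iso : (Scheme.Modules.pullback α).obj
      ((Scheme.Modules.pullback ((f ≫ g).fiberι (h s'))).obj F) ≅
      (Scheme.Modules.pullback ((f' ≫ g').fiberι s')).obj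
        ((Scheme.Modules.pullback gX).obj F) :=
    (Scheme.Modules.pullbackComp α ((f ≫ g).fiberι (h s'))).app F ≪≫
      (Scheme.Modules.pullbackCongr hαι).app F ≪≫
      ((Scheme.Modules.pullbackComp ((f' ≫ g').fiberι s') gX).app F).symm
  have h3 : FlatMod.IsFlatOverAt (MoreMor.fiberMap f' g' s')
      ((Scheme.Modules.pullback α).obj
        ((Scheme.Modules.pullback ((f ≫ g).fiberι (h s'))).obj F)) x₁ :=
    isFlatOverAt_of_iso _ iso.symm x₁ h2
  -- step 3: descent along the flat morphism `β`
  have h4 : FlatMod.IsFlatOverAt (MoreMor.fiberMap f g (h s'))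
      ((Scheme.Modules.pullback ((f ≫ g).fiberι (h s'))).obj F) (α x₁) :=
    isFlatOverAt_of_isFlatOverAt_pullback hsq3 _ x₁ (Flat.stalkMap β _) h3
  -- step 4: from the fibre to the local rings
  have h5 := flat_quotient_of_isFlatOverAt_fiber f g (h s') F (α x₁) h4
  -- the point
  have hpt : (f ≫ g).fiberι (h s') (α x₁) = gX x' := by
    rw [← Scheme.Hom.comp_apply, hαι, Scheme.Hom.comp_apply, Scheme.Hom.fiberι_asFiber]
  -- step 5: the fibre criterion
  have h6 : FlatMod.IsFlatOverAt f F ((f ≫ g).fiberι (h s') (α x₁)) := by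
    rcases subsingleton_or_nontrivial (F.presheaf.stalk ((f ≫ g).fiberι (h s') (α x₁))) with hs | hn
    · exact isFlatOverAt_of_subsingleton f F _
    · have hfl' : FlatMod.IsFlatOverAt (f ≫ g) F ((f ≫ g).fiberι (h s') (α x₁)) := by
        rw [hpt]; exact hfl
      exact ((Groth.Agent.H70.FibreCritMod.critere_par_fibres f g F _ hn).mp
        ⟨hfl', h5⟩).2
  rw [hpt] at h6
  exact h6


end Groth.Agent.H70.RelFlatBC
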